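import Cfsg.Agent.H254.FxTools

/-!
# Fixity 3 and 4: the numeric criterion (helper443)

`D` with `OddTI k D`: `|D|` is a product of full Sylow orders of `G`, `m = |N(D) : D|` is 3 (`k = 3`), 4 or 12 (`k = 4`), and
`|G : N(D)| = |G| / (|D| m) ≡ 1` modulo every prime divisor of `|D|`.  Together with a few facts "`s` divides `|N(⟨x⟩)|` for some
`x` of order `r`" (then `s` divides `|D| m` if `r` divides `|D|`) this kills every `D`: `noTI_of_num`, `no34_of_num`.
-/

set_option autoImplicit false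
set_option linter.style.haveILetI false

namespace Cfsg.Agent.H443.Fx

open Subgroup Cfsg.Agent.H254.Fx

variable {G : Type*} [Group G] {k : ℕ} {D : Subgroup G}

/-- the index of a subgroup containing a Sylow normalizer -/
theorem index_modEq [Finite G] {N : Subgroup G} {r : ℕ} (hr : r.Prime) {P : Sylow r G}
    (hN : normalizer ((P : Subgroup G) : Set G) ≤ N) : N.index ≡ 1 [MOD r] := by
  haveI : Fact r.Prime := ⟨hr⟩
  have hP : (P : Subgroup G) ≤ N := le_normalizer.trans hN
  have h1 := P.isPGroup'.card_modEq_card_fixedPoints (G ⧸ N)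
  have h2 : MulAction.fixedPoints P (G ⧸ N) = {((1 : G) : G ⧸ N)} := by
    ext q
    constructor
    · intro hq
      induction q using QuotientGroup.induction_on with | H g => ?_
      have h3 : ∀ x ∈ (P : Subgroup G), g⁻¹ * x * g ∈ N := by
        intro x hx
        have h4 : (⟨x, hx⟩ : P) • ((g : G) : G ⧸ N) = ((g : G) : G ⧸ N) := hq ⟨x, hx⟩
        have h5 : ((x * g : G) : G ⧸ N) = ((g : G) : G ⧸ N) := h4
        rw [eq_comm, QuotientGroup.eq] at h5
        rwa [mul_assoc]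
      -- `g⁻¹ P g` is a Sylow subgroup of `N`
      let Q : Sylow r G := g⁻¹ • P
      have hQ : (Q : Subgroup G) ≤ N := by
        intro y hy
        have h6 : (Q : Subgroup G) = (P : Subgroup G).map (MulAut.conj g⁻¹).toMonoidHom := by
          rw [Sylow.coe_subgroup_smul]; rfl
        rw [h6] at hy
        obtain ⟨x, hx, rfl⟩ := hy
        have h7 := h3 x hx
        show g⁻¹ * x * g⁻¹⁻¹ ∈ N
        rwa [inv_inv]
      obtain ⟨n, hn⟩ := MulAction.exists_smul_eq N (P.subtype hP) (Q.subtype hQ)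
      have h8 : (n : G) • P = Q := by
        apply Sylow.ext
        have h8a : (((n : G) • P : Sylow r G) : Subgroup G) = (P : Subgroup G).map (MulAut.conj (n : G)).toMonoidHom := by
          rw [Sylow.coe_subgroup_smul]; rfl
        have h8b : (Q : Subgroup G) = (P : Subgroup G).map (MulAut.conj g⁻¹).toMonoidHom := by
          rw [Sylow.coe_subgroup_smul]; rfl
        rw [h8a]
        apply Subgroup.eq_of_le_of_card_ge
        · rintro _ ⟨x, hx, rfl⟩
          have h9 : (⟨x, hP hx⟩ : N) ∈ (P.subtype hP : Subgroup N) := hx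
          have h10 : n * ⟨x, hP hx⟩ * n⁻¹ ∈ ((n • P.subtype hP : Sylow r N) : Subgroup N) := by
            rw [Sylow.coe_subgroup_smul]
            exact Subgroup.smul_mem_pointwise_smul _ (MulAut.conj n) _ h9
          rw [hn] at h10
          exact h10
        · rw [h8b, card_map_eq, card_map_eq]
      have h10 : (g * (n : G)) • P = P := by
        rw [mul_smul, h8]
        show g • g⁻¹ • P = P
        rw [smul_inv_smul]
      have h11 : g * (n : G) ∈ normalizer ((P : Subgroup G) : Set G) := Sylow.smul_eq_iff_mem_normalizer.1 h10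
      have h12 : g ∈ N := by
        have h13 := N.mul_mem (hN h11) (N.inv_mem n.2)
        rwa [mul_inv_cancel_right] at h13
      rw [Set.mem_singleton_iff, QuotientGroup.eq, mul_one]
      exact N.inv_mem h12
    · rintro rfl ⟨x, hx⟩
      show ((x * 1 : G) : G ⧸ N) = ((1 : G) : G ⧸ N)
      rw [eq_comm, QuotientGroup.eq, inv_one, one_mul, mul_one]
      exact hP hx
  have h3 : Nat.card ({((1 : G) : G ⧸ N)} : Set (G ⧸ N)) = 1 := Nat.card_unique
  rw [h2, h3, ← Subgroup.index_eq_card] at h1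
  exact h1

/-- the normalizer of a Sylow subgroup in `D` -/
theorem index_modEq' [Finite G] (h : OddTI k D) {r : ℕ} (hr : r.Prime) {P : Sylow r G} (hP : (P : Subgroup G) ≤ D)
    (hP1 : (P : Subgroup G) ≠ ⊥) : (normalizer (D : Set G)).index ≡ 1 [MOD r] :=
  index_modEq hr (P := P) (h.norm _ hP hP1)

theorem card_eq (D : Subgroup G) : Nat.card G =
    Nat.card D * D.relIndex (normalizer (D : Set G)) * (normalizer (D : Set G)).index := by
  rw [← card_mul_index (normalizer (D : Set G)), card_normalizer_eq]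

/-- `D` contains a Sylow `r`-subgroup for each prime divisor `r` -/
def Full (D : Subgroup G) : Prop := ∀ r : ℕ, r.Prime → r ∣ Nat.card D → ∃ P : Sylow r G, (P : Subgroup G) ≤ D

theorem full_of [Finite G] (h : OddTI k D)
    (h9 : 27 ∣ Nat.card G ∨ ¬ 9 ∣ Nat.card G ∨ ¬ 3 ∣ Nat.card D) : Full D := by
  intro r hr hd
  by_cases h5 : 5 ≤ r
  · exact h.exists_sylow_le hr h5 hd
  have h12 : r = 2 ∨ r = 3 ∨ r = 4 := by have := hr.two_le; omega
  rcases h12 with rfl | rfl | rfl
  · exfalso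
    have h4 := h.odd
    rw [← Nat.not_even_iff_odd, even_iff_two_dvd] at h4
    exact h4 hd
  · haveI : Fact (Nat.Prime 3) := ⟨Nat.prime_three⟩
    rcases h.three hd with h6 | h6
    · exact h6
    · exfalso
      obtain ⟨h7, -⟩ := h6 default
      rcases h9 with h9 | h9 | h9
      · have h2 : 3 ^ 3 ∣ Nat.card (default : Sylow 3 G) := (default : Sylow 3 G).pow_dvd_card_of_pow_dvd_card h9
        rw [h7] at h2
        omega
      · apply h9
        rw [← h7]
        exact card_subgroup_dvd_card _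
      · exact h9 hd
  · exact absurd hr (by decide)

theorem sylow_ne_bot [Finite G] {r : ℕ} (hr : r.Prime) (P : Sylow r G) (hd : r ∣ Nat.card G) : (P : Subgroup G) ≠ ⊥ := by
  haveI : Fact r.Prime := ⟨hr⟩
  have h2 := P.dvd_card_of_dvd_card hd
  intro h4
  rw [h4, card_bot] at h2
  exact hr.one_lt.ne' (Nat.dvd_one.1 h2)

theorem Full.pow_dvd [Finite G] (h : Full D) {r e : ℕ} (hr : r.Prime) (hd : r ∣ Nat.card D) (he : r ^ e ∣ Nat.card G) :
    r ^ e ∣ Nat.card D := by
  haveI : Fact r.Prime := ⟨hr⟩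
  obtain ⟨P, hP⟩ := h r hr hd
  exact (P.pow_dvd_card_of_pow_dvd_card he).trans (card_dvd_of_le hP)

/-- the facts -/
theorem fact_dvd [Finite G] (h : OddTI k D) (hF : Full D) {r s : ℕ} (hr : r.Prime) (hd : r ∣ Nat.card D) {x : G}
    (hx : orderOf x = r) (hs : s ∣ Nat.card (normalizer (zpowers x : Set G))) :
    s ∣ Nat.card D * D.relIndex (normalizer (D : Set G)) := by
  obtain ⟨P, hP⟩ := hF r hr hd
  obtain ⟨g, hg⟩ := exists_conj_of_sylow_le hr hP hx
  have hx1 : g * x * g⁻¹ ≠ 1 := by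
    intro h1
    have h2 : orderOf (g * x * g⁻¹) = r := by rw [← hx]; exact (MulAut.conj g).orderOf_eq x
    rw [h1, orderOf_one] at h2
    exact hr.one_lt.ne h2
  have h3 := h.normz hg hx1
  have h4 : Nat.card (normalizer (zpowers (g * x * g⁻¹) : Set G)) = Nat.card (normalizer (zpowers x : Set G)) := by
    have h5 : zpowers (g * x * g⁻¹) = (zpowers x).map (MulAut.conj g).toMonoidHom := by
      rw [MonoidHom.map_zpowers]; rfl
    rw [h5, normalizer_map_eq, card_map_eq]
  rw [← card_normalizer_eq]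
  rw [← h4] at hs
  exact hs.trans (card_dvd_of_le h3)

/-! ### arithmetic -/

/-- the prime power -/
def pw (p : ℕ × ℕ) : ℕ := p.1 ^ p.2

theorem eq_prod_filter : ∀ (l : List (ℕ × ℕ)), (∀ p ∈ l, p.1.Prime) → (l.map Prod.fst).Nodup → ∀ d : ℕ,
    d ∣ (l.map pw).prod → (∀ p ∈ l, p.1 ∣ d → pw p ∣ d) →
    d = ((l.filter fun p => decide (p.1 ∣ d)).map pw).prod
  | [], _, _, d, hd, _ => by simpa using hd
  | p :: l, hp, hn, d, hd, hf => by
    have hp1 := hp p (by simp)
    have hpl : ∀ q ∈ l, q.1.Prime := fun q hq => hp q (by simp [hq])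
    rw [List.map_cons, List.nodup_cons] at hn
    rw [List.map_cons, List.prod_cons] at hd
    have hne : ∀ q ∈ l, q.1 ≠ p.1 := by
      intro q hq h
      exact hn.1 (List.mem_map.2 ⟨q, hq, h⟩)
    by_cases hpd : p.1 ∣ d
    · obtain ⟨d', hd'⟩ := hf p (by simp) hpd
      have hpos : 0 < pw p := Nat.pow_pos hp1.pos
      have hco : ∀ q ∈ l, q.1 ∣ d ↔ q.1 ∣ d' := by
        intro q hq
        rw [hd', (hpl q hq).dvd_mul]
        constructor
        · rintro (h | h)
          · exact absurd ((Nat.prime_dvd_prime_iff_eq (hpl q hq) hp1).1 ((hpl q hq).dvd_of_dvd_pow h)) (hne q hq)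
          · exact h
        · exact Or.inr
      have h1 : d' ∣ (l.map pw).prod := by
        rw [hd'] at hd
        exact (Nat.mul_dvd_mul_iff_left hpos).1 hd
      have h2 := eq_prod_filter l hpl hn.2 d' h1 (by
        intro q hq hqd
        have h3 := hf q (by simp [hq]) ((hco q hq).2 hqd)
        rw [hd'] at h3
        refine Nat.Coprime.dvd_of_dvd_mul_left ?_ h3
        exact Nat.Coprime.pow _ _ ((Nat.coprime_primes (hpl q hq) hp1).2 (hne q hq)))
      have h4 : l.filter (fun p => decide (p.1 ∣ d')) = l.filter (fun p => decide (p.1 ∣ d)) := by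
        apply List.filter_congr
        intro q hq
        exact decide_eq_decide.2 (hco q hq).symm
      rw [h4] at h2
      rw [List.filter_cons_of_pos (by simpa using hpd), List.map_cons, List.prod_cons, ← h2]
      exact hd'
    · have hco : Nat.Coprime d (pw p) := (Nat.Coprime.pow_left _ ((Nat.Prime.coprime_iff_not_dvd hp1).2 hpd)).symm
      have h2 := eq_prod_filter l hpl hn.2 d (hco.dvd_of_dvd_mul_left hd) fun q hq => hf q (by simp [hq])
      rw [List.filter_cons_of_neg (by simpa using hpd)]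
      exact h2

/-- the check for one set of primes -/
def bad (n : ℕ) (fs : List (ℕ × ℕ)) (ex : List (ℕ × ℕ)) (s : List (ℕ × ℕ)) (d m : ℕ) : Bool :=
  !(n % (d * m) == 0) || s.any (fun p => !((n / (d * m)) % p.1 == 1)) ||
    fs.any (fun f => s.any (fun p => p.1 == f.1) && !((d * m) % f.2 == 0)) || ex.any (fun e => e.1 == d && e.2 == m)

/-- the check for a list of values of `m` -/
def check (ms : List ℕ) (n : ℕ) (fs ex l : List (ℕ × ℕ)) : Bool :=
  l.sublists'.all fun s => s.isEmpty || ms.all fun m => bad n fs ex s (s.map pw).prod m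

/-- **the numeric criterion**: `l` = the odd primes `r` (with their exponents in `|G|`) which can divide `|D|`;
`ks` = primes not dividing any `|D|`; `fs` = facts; `ex` = excluded pairs `(|D|, m)`. -/
theorem noTI_of_num [Finite G] (k : ℕ) (hk : k = 3 ∨ k = 4) (a : ℕ) (l ks : List (ℕ × ℕ)) (fs ex : List (ℕ × ℕ))
    (hn : Nat.card G = 2 ^ a * ((ks ++ l).map pw).prod) (hp : ∀ p ∈ ks ++ l, p.1.Prime ∧ p.1 ≠ 2)
    (hnd : ((ks ++ l).map Prod.fst).Nodup)
    (hks : ∀ D : Subgroup G, OddTI k D → ∀ p ∈ ks, ¬ p.1 ∣ Nat.card D)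
    (h9 : 27 ∣ Nat.card G ∨ ¬ 9 ∣ Nat.card G ∨ ∀ D : Subgroup G, OddTI k D → ¬ 3 ∣ Nat.card D)
    (hf : ∀ f ∈ fs, ∃ x : G, orderOf x = f.1 ∧ f.2 ∣ Nat.card (normalizer (zpowers x : Set G)))
    (hex : ∀ e ∈ ex, ∀ D : Subgroup G, OddTI k D → Nat.card D = e.1 → D.relIndex (normalizer (D : Set G)) = e.2 → False)
    (hc : check (if k = 3 then [3] else [4, 12]) (2 ^ a * ((ks ++ l).map pw).prod) fs ex l = true) : NoTI k G := by
  intro D h
  have hF : Full D := full_of h (by
    rcases h9 with h9 | h9 | h9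
    · exact Or.inl h9
    · exact Or.inr (Or.inl h9)
    · exact Or.inr (Or.inr (h9 D h)))
  obtain ⟨d, hd⟩ : ∃ d, d = Nat.card D := ⟨_, rfl⟩
  obtain ⟨m, hm⟩ : ∃ m, m = D.relIndex (normalizer (D : Set G)) := ⟨_, rfl⟩
  obtain ⟨n, hn'⟩ : ∃ n, n = Nat.card G := ⟨_, rfl⟩
  have hcard : n = d * m * (normalizer (D : Set G)).index := by rw [hn', hd, hm]; exact card_eq D
  rw [← hn'] at hn
  have hn0 : 0 < n := by rw [hn']; exact Nat.card_pos
  have hdn : d ∣ n := ⟨m * (normalizer (D : Set G)).index, by rw [hcard, mul_assoc]⟩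
  have hodd : ¬ 2 ∣ d := by
    have h4 := h.odd
    rw [← Nat.not_even_iff_odd, even_iff_two_dvd, ← hd] at h4
    exact h4
  have hd1 : d ≠ 1 := by
    intro h1
    exact h.ne (Subgroup.eq_bot_of_card_eq D (by rw [← hd, h1]))
  have hpl : ∀ p ∈ l, p.1.Prime := fun p hpp => (hp p (List.mem_append_right _ hpp)).1
  have hdp : d ∣ ((ks ++ l).map pw).prod := by
    rw [hn] at hdn
    exact (Nat.Coprime.pow_left a ((Nat.Prime.coprime_iff_not_dvd Nat.prime_two).2 hodd)).symm.dvd_of_dvd_mul_left hdn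
  have hpw : ∀ p ∈ ks ++ l, p.1 ∣ d → pw p ∣ d := by
    intro p hpp hpd
    rw [hd] at hpd ⊢
    refine hF.pow_dvd (hp p hpp).1 hpd ?_
    rw [← hn', hn]
    exact Dvd.dvd.mul_left (List.dvd_prod (List.mem_map.2 ⟨p, hpp, rfl⟩)) _
  have hdl := eq_prod_filter (ks ++ l) (fun p hpp => (hp p hpp).1) hnd d hdp hpw
  have hks' : ks.filter (fun p => decide (p.1 ∣ d)) = [] := by
    rw [List.filter_eq_nil_iff]
    intro p hpp h1
    exact hks D h p hpp (by rw [← hd]; exact of_decide_eq_true h1)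
  rw [List.filter_append, hks', List.nil_append] at hdl
  obtain ⟨s, hs⟩ : ∃ s, s = l.filter (fun p => decide (p.1 ∣ d)) := ⟨_, rfl⟩
  rw [← hs] at hdl
  have hsl : s.Sublist l := by rw [hs]; exact List.filter_sublist
  have hsd : ∀ p ∈ s, p.1 ∣ d := by
    intro p hpp
    rw [hs, List.mem_filter] at hpp
    exact of_decide_eq_true hpp.2
  have hsne : s ≠ [] := by
    intro h1
    rw [h1] at hdl
    exact hd1 (by simpa using hdl)
  -- `k ∣ m`
  have hkm : k ∣ m := by
    obtain ⟨p, hps⟩ := List.exists_mem_of_ne_nil s hsne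
    have hpp := hpl p (hsl.subset hps)
    obtain ⟨P, hP⟩ := hF p.1 hpp (by rw [← hd]; exact hsd p hps)
    have h1 := h.tran p.1 P hpp hP (sylow_ne_bot hpp P (by rw [← hn']; exact (hsd p hps).trans hdn))
    rw [hm]
    exact h1
  have hm12 : m ∣ 12 := by rw [hm]; exact h.idx
  have hmk : m ∈ (if k = 3 then [3] else [4, 12]) := by
    rcases hk with rfl | rfl
    · have h3 : m ∣ 3 := by rw [hm]; exact h.idx3 rfl
      have h4 : m = 3 := Nat.dvd_antisymm h3 hkm
      simp [h4]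
    · obtain ⟨c, hc⟩ := hkm
      have h5 : m ≤ 12 := Nat.le_of_dvd (by norm_num) hm12
      have h6 : m ≠ 8 := by rintro h7; rw [h7] at hm12; omega
      have h7 : m ≠ 0 := by rintro h7; rw [h7] at hm12; omega
      simp only [Nat.reduceEqDiff, if_false, List.mem_cons, List.not_mem_nil, or_false]
      omega
  unfold check at hc
  rw [List.all_eq_true] at hc
  have hc1 := hc s (List.mem_sublists'.2 hsl)
  rw [Bool.or_eq_true, List.isEmpty_iff, List.all_eq_true] at hc1
  have hc2 := (hc1.resolve_left hsne) m hmk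
  rw [← hn, ← hdl] at hc2
  have hdm0 : 0 < d * m := by
    rcases Nat.eq_zero_or_pos (d * m) with h0 | h0
    · rw [h0, zero_mul] at hcard; omega
    · exact h0
  unfold bad at hc2
  rw [Bool.or_eq_true, Bool.or_eq_true, Bool.or_eq_true] at hc2
  rcases hc2 with ((hc2 | hc2) | hc2) | hc2
  · have h1 : n % (d * m) = 0 := Nat.mod_eq_zero_of_dvd ⟨_, hcard⟩
    rw [h1] at hc2
    simp at hc2
  · rw [List.any_eq_true] at hc2
    obtain ⟨p, hps, hp1⟩ := hc2
    have hpp := hpl p (hsl.subset hps)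
    obtain ⟨P, hP⟩ := hF p.1 hpp (by rw [← hd]; exact hsd p hps)
    have h1 := index_modEq' h hpp hP (sylow_ne_bot hpp P (by rw [← hn']; exact (hsd p hps).trans hdn))
    have h2 : n / (d * m) = (normalizer (D : Set G)).index := by
      rw [hcard]; exact Nat.mul_div_cancel_left _ hdm0
    rw [← h2] at h1
    have h3 : n / (d * m) % p.1 = 1 := by
      have h4 : n / (d * m) % p.1 = 1 % p.1 := h1
      rwa [Nat.mod_eq_of_lt hpp.one_lt] at h4
    rw [h3] at hp1
    simp at hp1
  · rw [List.any_eq_true] at hc2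
    obtain ⟨f, hff, hf1⟩ := hc2
    rw [Bool.and_eq_true, List.any_eq_true] at hf1
    obtain ⟨⟨p, hps, hp1⟩, hf2⟩ := hf1
    have hp1' : p.1 = f.1 := by simpa using hp1
    obtain ⟨x, hx, hxs⟩ := hf f hff
    have hpp := hpl p (hsl.subset hps)
    have h1 := fact_dvd h hF (r := f.1) (hp1' ▸ hpp) (by rw [← hd, ← hp1']; exact hsd p hps) hx hxs
    rw [← hd, ← hm] at h1
    rw [Nat.mod_eq_zero_of_dvd h1] at hf2
    simp at hf2
  · rw [List.any_eq_true] at hc2
    obtain ⟨e, hee, he1⟩ := hc2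
    rw [Bool.and_eq_true] at he1
    have h1 : e.1 = d := by simpa using he1.1
    have h2 : e.2 = m := by simpa using he1.2
    exact hex e hee D h (by rw [← hd, h1]) (by rw [← hm, h2])

/-- both values of `k` -/
theorem no34_of_num [Finite G] (a : ℕ) (l ks : List (ℕ × ℕ)) (fs ex : List (ℕ × ℕ))
    (hn : Nat.card G = 2 ^ a * ((ks ++ l).map pw).prod) (hp : ∀ p ∈ ks ++ l, p.1.Prime ∧ p.1 ≠ 2)
    (hnd : ((ks ++ l).map Prod.fst).Nodup)
    (hks : ∀ k, ∀ D : Subgroup G, OddTI k D → ∀ p ∈ ks, ¬ p.1 ∣ Nat.card D)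
    (h9 : 27 ∣ Nat.card G ∨ ¬ 9 ∣ Nat.card G ∨ ∀ k, ∀ D : Subgroup G, OddTI k D → ¬ 3 ∣ Nat.card D)
    (hf : ∀ f ∈ fs, ∃ x : G, orderOf x = f.1 ∧ f.2 ∣ Nat.card (normalizer (zpowers x : Set G)))
    (hex : ∀ e ∈ ex, ∀ k, ∀ D : Subgroup G, OddTI k D → Nat.card D = e.1 →
      D.relIndex (normalizer (D : Set G)) = e.2 → False)
    (hc : check [3, 4, 12] (2 ^ a * ((ks ++ l).map pw).prod) fs ex l = true) : No34 G := by
  have key : ∀ k, k = 3 ∨ k = 4 → NoTI k G := by
    intro k hk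
    refine noTI_of_num k hk a l ks fs ex hn hp hnd (hks k) ?_ hf (fun e he D hD => hex e he k D hD) ?_
    · rcases h9 with h9 | h9 | h9
      · exact Or.inl h9
      · exact Or.inr (Or.inl h9)
      · exact Or.inr (Or.inr (h9 k))
    · unfold check at hc ⊢
      rw [List.all_eq_true] at hc ⊢
      intro s hs
      have h1 := hc s hs
      rw [Bool.or_eq_true, List.all_eq_true] at h1 ⊢
      rcases h1 with h1 | h1
      · exact Or.inl h1
      · right
        intro m hm
        apply h1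
        rcases hk with rfl | rfl
        · simp at hm; simp [hm]
        · simp at hm; rcases hm with rfl | rfl <;> simp
  exact ⟨key 3 (Or.inl rfl), key 4 (Or.inr rfl)⟩

/-! ### facts -/

/-- an element of order `r * s` -/
theorem fact_of_order [Finite G] {r s : ℕ} {y : G} (hy : orderOf y = r * s) :
    ∃ x : G, orderOf x = r ∧ r * s ∣ Nat.card (normalizer (zpowers x : Set G)) := by
  have hs : 0 < s := by
    rcases Nat.eq_zero_or_pos s with h | h
    · rw [h, mul_zero] at hy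
      exact absurd hy (orderOf_pos y).ne'
    · exact h
  refine ⟨y ^ s, ?_, ?_⟩
  · rw [orderOf_pow_of_dvd hs.ne' (by rw [hy]; exact Dvd.intro_left _ rfl), hy, Nat.mul_div_cancel _ hs]
  · rw [← hy]
    exact orderOf_dvd_card_of_mem (mem_normalizer_of_comm (by rw [← pow_succ', pow_succ]))

/-- commuting elements of coprime orders -/
theorem fact_of_comm [Finite G] {r s : ℕ} {x y : G} (hx : orderOf x = r) (hy : orderOf y = s) (h : y * x = x * y) :
    ∃ x : G, orderOf x = r ∧ s ∣ Nat.card (normalizer (zpowers x : Set G)) := by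
  refine ⟨x, hx, ?_⟩
  rw [← hy]
  exact orderOf_dvd_card_of_mem (mem_normalizer_of_comm h)

/-- an element normalizing `⟨x⟩` -/
theorem fact_of_conj [Finite G] {r s j : ℕ} {x y : G} (hx : orderOf x = r) (hy : orderOf y = s)
    (h : y * x * y⁻¹ = x ^ j) : ∃ x : G, orderOf x = r ∧ s ∣ Nat.card (normalizer (zpowers x : Set G)) := by
  refine ⟨x, hx, ?_⟩
  rw [← hy]
  exact orderOf_dvd_card_of_mem (mem_normalizer_of_conj h)

/-- a subgroup commuting with `x` -/
theorem fact_of_sub [Finite G] {r s : ℕ} {x : G} {Y : Subgroup G} (hx : orderOf x = r) (hY : ∀ y ∈ Y, y * x = x * y)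
    (h : s ∣ Nat.card Y) : ∃ x : G, orderOf x = r ∧ s ∣ Nat.card (normalizer (zpowers x : Set G)) :=
  ⟨x, hx, h.trans (card_dvd_of_le fun y hy => mem_normalizer_of_comm (hY y hy))⟩

/-- a bad element of prime order `r ≥ 5` -/
theorem not_dvd_of_bad [Finite G] {r : ℕ} (hr : r.Prime) (h5 : 5 ≤ r) {x : G} (hx : orderOf x = r) (hb : Bad x) {k : ℕ}
    {D : Subgroup G} (h : OddTI k D) : ¬ r ∣ Nat.card D := by
  intro hd
  obtain ⟨E, hE, -, hxE⟩ := h.exists_mem hr h5 hd hx
  refine hE.not_bad hxE ?_ hb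
  rintro rfl
  rw [orderOf_one] at hx
  omega

/-! ### special facts (for `ex`) -/

theorem odd_of_mem [Finite G] (h : OddTI k D) {v : G} (hv : v ∈ D) : Odd (orderOf v) := by
  have h1 := orderOf_dvd_card_of_mem hv
  exact Odd.of_dvd_nat h.odd h1

/-- `u x u⁻¹ = x ^ j` with `j` of order 4 modulo `r`: then `|N(D) : D| = 4` -/
theorem relIndex_of_four [Finite G] (h : OddTI k D) (hF : Full D) {r j : ℕ} (hr : r.Prime) (hd : r ∣ Nat.card D)
    {x u : G} (hx : orderOf x = r) (hu : u * x * u⁻¹ = x ^ j) (h2 : ¬ j ^ 2 ≡ 1 [MOD r]) (h4 : j ^ 4 ≡ 1 [MOD r]) :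
    D.relIndex (normalizer (D : Set G)) = 4 := by
  obtain ⟨P, hP⟩ := hF r hr hd
  obtain ⟨g, hg⟩ := exists_conj_of_sylow_le hr hP hx
  set x' := g * x * g⁻¹ with hx'
  set u' := g * u * g⁻¹ with hu'
  have hox : orderOf x' = r := by rw [← hx]; exact (MulAut.conj g).orderOf_eq x
  have hx1 : x' ≠ 1 := by
    intro h1
    rw [h1, orderOf_one] at hox
    exact hr.one_lt.ne hox
  have hconj : u' * x' * u'⁻¹ = x' ^ j := by
    rw [hx', conj_pow, ← hu, hu']; group
  have hN := h.norm_pow hg hx1 hconj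
  have key : ∀ a : ℕ, u' ^ a ∈ D → ∃ w : ℕ, Odd w ∧ j ^ (a * w) ≡ 1 [MOD r] := by
    intro a ha
    refine ⟨orderOf (u' ^ a), odd_of_mem h ha, ?_⟩
    have h5 := pow_conj_iter hconj (a * orderOf (u' ^ a))
    rw [pow_mul, pow_orderOf_eq_one, one_mul, inv_one, mul_one] at h5
    have h6 : x' ^ 1 = x' ^ (j ^ (a * orderOf (u' ^ a))) := by rw [pow_one]; exact h5
    rw [pow_eq_pow_iff_modEq, hox] at h6
    exact h6.symm
  have h4' : ∀ q : ℕ, j ^ (4 * q) ≡ 1 [MOD r] := by
    intro q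
    rw [pow_mul]
    simpa using h4.pow q
  have red : ∀ q t : ℕ, j ^ (4 * q + t) ≡ 1 [MOD r] → j ^ t ≡ 1 [MOD r] := by
    intro q t ht
    rw [pow_add] at ht
    have h5 : j ^ (4 * q) * j ^ t ≡ 1 * j ^ t [MOD r] := (h4' q).mul_right _
    rw [one_mul] at h5
    exact h5.symm.trans ht
  have hn2 : u' ^ 2 ∉ D := by
    intro ha
    obtain ⟨w, ⟨c, hc⟩, hw⟩ := key 2 ha
    apply h2
    apply red c 2
    rw [show 4 * c + 2 = 2 * w by omega]
    exact hw
  refine h.four u' hN hn2 ?_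
  rcases h.exp u' hN with h3 | h3
  · exfalso
    obtain ⟨w, ⟨c, hc⟩, hw⟩ := key 3 h3
    apply h2
    -- `3 (2 c + 1) = 4 (..) + 3 or 1`
    have h5 : j ^ (4 * (3 * c) + (2 * 3)) ≡ 1 [MOD r] := by
      rw [show 4 * (3 * c) + 2 * 3 = (3 * w) * 2 by omega, pow_mul]
      simpa using hw.pow 2
    have h6 : j ^ (4 * (3 * c + 1) + 2) ≡ 1 [MOD r] := by
      rw [show 4 * (3 * c + 1) + 2 = 4 * (3 * c) + (2 * 3) by omega]
      exact h5
    exact red _ 2 h6
  · exact h3

/-- an element `y` of order 3 normalizing `⟨x⟩`, inverted by some `z` normalizing `⟨x⟩`: then `3 ∣ |D|` -/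
theorem three_dvd_of_inv [Finite G] (h : OddTI k D) (hF : Full D) {r : ℕ} (hr : r.Prime) (hd : r ∣ Nat.card D)
    {x y z : G} (hx : orderOf x = r) (hy : y ∈ normalizer (zpowers x : Set G)) (hz : z ∈ normalizer (zpowers x : Set G))
    (hy3 : orderOf y = 3) (hi : z * y * z⁻¹ = y⁻¹) : 3 ∣ Nat.card D := by
  obtain ⟨P, hP⟩ := hF r hr hd
  obtain ⟨g, hg⟩ := exists_conj_of_sylow_le hr hP hx
  have hox : orderOf (g * x * g⁻¹) = r := by rw [← hx]; exact (MulAut.conj g).orderOf_eq x
  have hx1 : g * x * g⁻¹ ≠ 1 := by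
    intro h1
    rw [h1, orderOf_one] at hox
    exact hr.one_lt.ne hox
  have h1 := h.normz hg hx1 (mem_normalizer_conj g hy)
  have h2 := h.normz hg hx1 (mem_normalizer_conj g hz)
  have h3 : orderOf (g * y * g⁻¹) = 3 := by rw [← hy3]; exact (MulAut.conj g).orderOf_eq y
  have h4 : g * y * g⁻¹ ∈ D := by
    refine h.noinv _ h1 _ h2 ?_ ?_
    · rw [← h3, pow_orderOf_eq_one]; exact one_mem _
    · have h5 : g * z * g⁻¹ * (g * y * g⁻¹) * (g * z * g⁻¹)⁻¹ * (g * y * g⁻¹) = g * (z * y * z⁻¹ * y) * g⁻¹ := by group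
      rw [h5, hi, inv_mul_cancel, mul_one, mul_inv_cancel]
      exact one_mem _
  rw [← h3]
  exact orderOf_dvd_card_of_mem h4

/-- `|D| = r` and `|N(D) : D| = 12`: an involution commutes with an element of order `r` -/
theorem exists_involution [Finite G] (h : OddTI k D) {r : ℕ} (hr : r.Prime) (hd : Nat.card D = r)
    (hm : D.relIndex (normalizer (D : Set G)) = 12) : ∃ x t : G, orderOf x = r ∧ orderOf t = 2 ∧ t * x = x * t := by
  haveI : Fact r.Prime := ⟨hr⟩
  obtain ⟨f, hf⟩ := h.hom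
  -- the image is the alternating group
  have hker : f.ker = D.subgroupOf (normalizer (D : Set G)) := by
    ext y
    rw [MonoidHom.mem_ker, hf, mem_subgroupOf]
  have h1 : Nat.card f.range = 12 := by
    rw [← Subgroup.index_ker, hker]
    exact hm
  have h2 : f.range.index = 2 := by
    have h3 := f.range.card_mul_index
    rw [h1, Nat.card_eq_fintype_card, Fintype.card_perm, Fintype.card_fin] at h3
    have h4 : (4 : ℕ).factorial = 24 := by decide
    rw [h4] at h3
    omega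
  have h3 : f.range = alternatingGroup (Fin 4) := Equiv.Perm.eq_alternatingGroup_of_index_eq_two h2
  have hlift : ∀ σ : Equiv.Perm (Fin 4), Equiv.Perm.sign σ = 1 → ∃ a, f a = σ := by
    intro σ hσ
    have h4 : σ ∈ f.range := by rw [h3]; exact Equiv.Perm.mem_alternatingGroup.2 hσ
    exact h4
  obtain ⟨a, ha⟩ := hlift c[0, 1, 2] (by decide)
  obtain ⟨b, hb⟩ := hlift c[0, 1, 3] (by decide)
  have hab : f (a * b * a⁻¹ * b⁻¹) = c[0, 1, 2] * c[0, 1, 3] * c[0, 1, 2]⁻¹ * c[0, 1, 3]⁻¹ := by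
    rw [map_mul, map_mul, map_mul, map_inv, map_inv, ha, hb]
  set c := a * b * a⁻¹ * b⁻¹ with hc
  have hfc2 : f c * f c = 1 := by rw [hab]; decide
  have hfc : f c ≠ 1 := by rw [hab]; decide
  obtain ⟨x, hxo⟩ := exists_prime_orderOf_dvd_card' (G := D) r (by rw [hd])
  have hxo' : orderOf (x : G) = r := by rw [Subgroup.orderOf_coe]; exact hxo
  have hgen : zpowers (x : G) = D := by
    apply Subgroup.eq_of_le_of_card_ge
    · rw [zpowers_le]; exact x.2
    · rw [Nat.card_zpowers, hxo', hd]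
  -- `c` commutes with `x`
  have hact : ∀ v : ↥(normalizer (D : Set G)), ∃ j : ℤ, (v : G) * x * (v : G)⁻¹ = (x : G) ^ j := by
    intro v
    have h5 : (v : G) * x * (v : G)⁻¹ ∈ D := (mem_normalizer_iff.1 v.2 x).1 x.2
    have h6 : (v : G) * x * (v : G)⁻¹ ∈ zpowers (x : G) := by rw [hgen]; exact h5
    obtain ⟨j, hj⟩ := mem_zpowers_iff.1 h6
    exact ⟨j, hj.symm⟩
  have hcomm : (c : G) * x = x * c := by
    obtain ⟨i, hi⟩ := hact a⁻¹
    obtain ⟨j, hj⟩ := hact b⁻¹
    have e1 : ∀ (v : ↥(normalizer (D : Set G))) (i j : ℤ), (v : G) * x * (v : G)⁻¹ = (x : G) ^ i →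
        (v : G) * (x : G) ^ j * (v : G)⁻¹ = (x : G) ^ (i * j) := by
      intro v i j hv
      rw [← conj_zpow, hv, zpow_mul]
    -- `a⁻¹ b⁻¹` and `b⁻¹ a⁻¹` act in the same way
    have e2 : ((a⁻¹ : ↥(normalizer (D : Set G))) : G) * ((b⁻¹ : ↥(normalizer (D : Set G))) : G) * x *
        ((b⁻¹ : ↥(normalizer (D : Set G))) : G)⁻¹ * ((a⁻¹ : ↥(normalizer (D : Set G))) : G)⁻¹ = (x : G) ^ (i * j) := by
      rw [← e1 a⁻¹ i j hi, ← hj]; group
    have e3 : ((b⁻¹ : ↥(normalizer (D : Set G))) : G) * ((a⁻¹ : ↥(normalizer (D : Set G))) : G) * x *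
        ((a⁻¹ : ↥(normalizer (D : Set G))) : G)⁻¹ * ((b⁻¹ : ↥(normalizer (D : Set G))) : G)⁻¹ = (x : G) ^ (i * j) := by
      rw [mul_comm i j, ← e1 b⁻¹ j i hj, ← hi]; group
    rw [← e3] at e2
    have hcG : (c : G) = (a : G) * b * (a : G)⁻¹ * (b : G)⁻¹ := rfl
    simp only [InvMemClass.coe_inv, inv_inv] at e2
    rw [hcG]
    have e4 : (x : G) = (b : G) * a * ((a : G)⁻¹ * (b : G)⁻¹ * x * b * a) * (a : G)⁻¹ * (b : G)⁻¹ := by group
    rw [e2] at e4
    have e5 : (a : G) * b * (a : G)⁻¹ * (b : G)⁻¹ * x = (a : G) * b * (a : G)⁻¹ * (b : G)⁻¹ *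
        ((b : G) * a * ((b : G)⁻¹ * (a : G)⁻¹ * x * a * b) * (a : G)⁻¹ * (b : G)⁻¹) := by rw [← e4]
    rw [e5]; group
  -- the involution `c ^ r`
  have hcD : (c : G) ^ 2 ∈ D := by
    have h5 : f (c ^ 2) = 1 := by rw [map_pow, pow_two]; exact hfc2
    rw [hf] at h5
    exact h5
  have hodd : Odd r := by rw [← hd]; exact h.odd
  refine ⟨x, (c : G) ^ r, hxo', ?_, ?_⟩
  · refine orderOf_eq_prime ?_ ?_
    · rw [← pow_mul, mul_comm, pow_mul]
      have h6 := orderOf_dvd_card_of_mem hcD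
      rw [hd] at h6
      exact orderOf_dvd_iff_pow_eq_one.1 h6
    · intro h6
      have h7 : f (c ^ r) = 1 := by
        rw [hf]
        show (c : G) ^ r ∈ D
        rw [h6]; exact one_mem _
      obtain ⟨w, hw⟩ := hodd
      rw [map_pow, hw, pow_succ, pow_mul, pow_two, hfc2, one_pow, one_mul] at h7
      exact hfc h7
  · exact (Commute.pow_left (show Commute (c : G) x from hcomm) r).eq

end Cfsg.Agent.H443.Fx
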